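import Cfsg.Agent.Lib.Y12.MC

/-! The group `2 × Aut M₁₂` on 26 points (generated data, helper14). -/

set_option autoImplicit false
set_option maxRecDepth 1000000
set_option maxHeartbeats 0

namespace Cfsg.Lib.M12S

open Cfsg.Lib.Calc Cfsg.Lib.Grp Cfsg.Lib.T2 Cfsg.Lib.T3 Cfsg.Lib.Y12

/-- a word -/
abbrev yv {G : Type*} [Group G] (γ : ℕ → G) : G := (γ 2 * γ 10) ^ 2

/-- a word of order 5 -/
abbrev ee {G : Type*} [Group G] (γ : ℕ → G) : G := (γ 5)⁻¹ * (γ 6)⁻¹ * (γ 5)⁻¹ * (γ 6)⁻¹ * γ 5 * (γ 6)⁻¹ * (γ 5)⁻¹ * (γ 6)⁻¹ * γ 4 * γ 5 * (γ 6)⁻¹ * γ 5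

def D_L3 : List (ℕ × List ℕ) := [((nat_lit 8), [(nat_lit 0x338bdab49ca307b9ac5a928398a418820), (nat_lit 0x338b5e957c17299d028942d7014323126), (nat_lit 0x3388adf3a22edaba04b2932398ac10c20), (nat_lit 0x3385d2f1286c272812abe039a0ed32584), (nat_lit 0x3380924d4540f80a8b6255331c762baf1), (nat_lit 0x338ac5763b28953c81bb84628e604424d), (nat_lit 0x3385c66fab6c8a1e43b94307014261126), (nat_lit 0x338a2e3770aa12cc69b1d80511e66ca08), (nat_lit 0x338205b283d9541a6e00ef414525b2d47), (nat_lit 0x3388d6cb526ec394d0a4e447b5c800443), (nat_lit 0x338b55c588d60ba84da3e019a0f249984), (nat_lit 0x338032086cc34909f62255531c6b716f1), (nat_lit 0x338a5d47b1aa45bd208b84c28e618224d), (nat_lit 0x338b4e3728563728087d5a2a48f03248c), (nat_lit 0x338634201dc8e12635941e544cd43a976), (nat_lit 0x33848e086d0d3932b1104af0389751ecb), (nat_lit 0x3389018432daa4c2d7089c7195119beb4), (nat_lit 0x338a16cb3b2a653c8375c0988662441b2), (nat_lit 0x3386b00113a571a0aa219714da07a55f3),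 (nat_lit 0x3380488c4a82b30cef6a2b6850538ddc5), (nat_lit 0x33824843015910a5d46c1f744cd551d76), (nat_lit 0x3386852621e5664151009cb195177ceb4), (nat_lit 0x338220011dd851263384a8e6d4cf3aacb), (nat_lit 0x33812126258676057484a6a6bc1571637)]),
  ((nat_lit 13), [(nat_lit 0x338bdab49ca307b9ac5a928398a418820), (nat_lit 0x33855e6fa34f0ada4389408705623248c), (nat_lit 0x3389aa95b81f08b8295d988398a410db2), (nat_lit 0x338b15f59b572a46007292839ae123062), (nat_lit 0x338b4ef1a84f0a2802796487356333089), (nat_lit 0x338a15f3532b03d8808dc687056249a4d), (nat_lit 0x3389aaafb0a925c4697140839ae16120d), (nat_lit 0x338ade6fb269059cc22b80888d412324d), (nat_lit 0x338bd147991d079589aada8b4a2608c40), (nat_lit 0x3382cecb78cf2aa84ca5da88c1c430029), (nat_lit 0x338756cb79a309dd24a29a83c8ac18022)]),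
  ((nat_lit 15), [(nat_lit 0x338bdab49ca307b9ac5a928398a418820), (nat_lit 0x3382c6937c1d2a9da2bd98859143004c9), (nat_lit 0x338a4eb7b4a20395a35a888789c961830), (nat_lit 0x3385a9f5a42d29c5a939408706e623043), (nat_lit 0x33853a6fac8f0a2da12c448b8ec04988c), (nat_lit 0x3389be858c1c95a9a0bd868a84ec110d2), (nat_lit 0x338ad1eb542c375da4394c89b22048452), (nat_lit 0x3385a8f5b8272b45a47ba082868248ccc), (nat_lit 0x338516c7ac9e0bada1744c8a327020923), (nat_lit 0x338adceb5026c2d1a97b848b0e30204d2), (nat_lit 0x3387d6672c9448ada675c28a26c300990), (nat_lit 0x338395cf58e90559a69c648b8aac01029)]),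
  ((nat_lit 1), [(nat_lit 0x338bdab49ca307b9ac5a928398a418820), (nat_lit 0x338515c799ae07ada4b52488b2a908e02), (nat_lit 0x3388d96a70ef07cda1ad088380a990986), (nat_lit 0x3388acaa9a4e17d5a675c88a4acc10070), (nat_lit 0x338a55719b1427d9a929cc8b91d280403), (nat_lit 0x338b96d4585407cdb071d2888ab230c8c), (nat_lit 0x3383add7a8a217cda32a988a42c4480d2), (nat_lit 0x338bd4b4710ec7ada09c52850ec111a50), (nat_lit 0x3383bad799283795b2ac5885256604041), (nat_lit 0x338554a7b42827cda05c648b8dc660524)]),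
  ((nat_lit 0), [(nat_lit 0x338bdab49ca307b9ac5a928398a418820), (nat_lit 0x338a4ecaab2267ada32dc48391d090029), (nat_lit 0x33855677b0e24795b2750083c16662422)]),
  ((nat_lit 2), [(nat_lit 0x338bdab49ca307b9ac5a928398a418820), (nat_lit 0x33855a74ac0f2795a45dc4888dcc32420)])]

def D_D3 : List ℕ := [(nat_lit 0), (nat_lit 513), (nat_lit 1537), (nat_lit 2561), (nat_lit 3073), (nat_lit 2817), (nat_lit 108034), (nat_lit 117250), (nat_lit 125954), (nat_lit 133890), (nat_lit 159234), (nat_lit 168962), (nat_lit 177922), (nat_lit 206338), (nat_lit 218114), (nat_lit 248322), (nat_lit 261890), (nat_lit 295938), (nat_lit 361474), (nat_lit 402178), (nat_lit 473090), (nat_lit 518914), (nat_lit 596994), (nat_lit 645634), (nat_lit 0), (nat_lit 18944259), (nat_lit 38055171), (nat_lit 2049), (nat_lit 5662510340), (nat_lit 6330364164), (nat_lit 1252354), (nat_lit 7440699140), (nat_lit 8532091140), (nat_lit 1435650), (nat_lit 9908165892), (nat_lit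 0), (nat_lit 955170716421), (nat_lit 142934787), (nat_lit 1145135687429), (nat_lit 146354082291974), (nat_lit 166696862761734), (nat_lit 185169339966726), (nat_lit 21862302468), (nat_lit 23736541956), (nat_lit 26272240388), (nat_lit 301045728886022), (nat_lit 337936646117126), (nat_lit 0), (nat_lit 0x9ee60521079307), (nat_lit 3490183489285), (nat_lit 0xd0cf636b9b9107), (nat_lit 0x6f4d35b138043d08), (nat_lit 0x7fb25a59c6c65b08), (nat_lit 0x8faf7a9467237b08), (nat_lit 793669133223174), (nat_lit 0xb7ea3b08310dbf08), (nat_lit 0xd4c46ec36e2ea308), (nat_lit 0), (nat_lit 0x22c0eb54f02b107), (nat_lit 0x23adc9a486a2b07), (nat_lit 0), (nat_lit 0x27cb1c7bda76707)]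

def D_L4 : List (ℕ × List ℕ) := [((nat_lit 0), [(nat_lit 0x338bdab49ca307b9ac5a928398a418820), (nat_lit 0x338b5e957c17299d028942d7014323126), (nat_lit 0x33872e959b4b07de4cb28c83a62408062), (nat_lit 0x3380924d4540f80a8b6255331c762baf1), (nat_lit 0x3382de8f9c1cdaae428a92839ac30808c), (nat_lit 0x3385bab47c2cd99d002c472b8941230c9), (nat_lit 0x338205b283d9541a6e00ef414525b2d47), (nat_lit 0x33875a6fa40adac5045a8d23a6ec08043), (nat_lit 0x338131b24506f806ab224f332816bc4ae), (nat_lit 0x33848e086d0d3932b1104af0389751ecb), (nat_lit 0x338191b24504f802b66195349c2b8ddc5), (nat_lit 0x3380b11093c1568e762255431c4b2ba37), (nat_lit 0x3382c675a35d07d903ba9323996208184), (nat_lit 0x33889e959cae87b9a652c90b30a918801), (nat_lit 0x33860a4d83c9441a71180b50b937b2cea), (nat_lit 0x33830608955336b28500e2f15c8e51d76)]),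
  ((nat_lit 2), [(nat_lit 0x338bdab49ca307b9ac5a928398a418820), (nat_lit 0x33852e937b4e8a960cb4472b89c432420), (nat_lit 0x3385c5f49cacda9602ba8c83a5c323020), (nat_lit 0x3383adf5a214d9964cb5c5088dc449820), (nat_lit 0x3388da6fac2f2a390c59ccd524a410c20), (nat_lit 0x338b46757b572a1502b9d30519c361020)]),
  ((nat_lit 4), [(nat_lit 0x338bdab49ca307b9ac5a928398a418820), (nat_lit 0x33889df3ac2eda150655992591c918820), (nat_lit 0x3388aa6fa22f2a96093ac8db31c618820), (nat_lit 0x338bae957b6289ba44b1cd0524ac18820)])]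

def D_D4 : List ℕ := [(nat_lit 0), (nat_lit 513), (nat_lit 1025), (nat_lit 2049), (nat_lit 2817), (nat_lit 79874), (nat_lit 88066), (nat_lit 108034), (nat_lit 116738), (nat_lit 138754), (nat_lit 148482), (nat_lit 158210), (nat_lit 185858), (nat_lit 214530), (nat_lit 227330), (nat_lit 323586), (nat_lit 0), (nat_lit 10861827), (nat_lit 127234), (nat_lit 10283779), (nat_lit 1669675268), (nat_lit 38960387), (nat_lit 0), (nat_lit 2506309892), (nat_lit 2558543620), (nat_lit 222459757829)]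

def D_L5 : List (ℕ × List ℕ) := [((nat_lit 0), [(nat_lit 0x338bdab49ca307b9ac5a928398a418820), (nat_lit 0x3385d2f1286c272812abe039a0ed32584), (nat_lit 0x3380924d4540f80a8b6255331c762baf1), (nat_lit 0x338b5e957c17299d028942d7014323126), (nat_lit 0x3388da957b6e89964c5a930399c410c01), (nat_lit 0x338ac5763b28953c81bb84628e604424d), (nat_lit 0x338634201dc8e12635941e544cd43a976), (nat_lit 0x3388d6cb526ec394d0a4e447b5c800443), (nat_lit 0x33848e086d0d3932b1104af0389751ecb), (nat_lit 0x338011b28503340eab6254f31c5671637), (nat_lit 0x3389018432daa4c2d7089c7195119beb4), (nat_lit 0x338a2e3770aa12cc69b1d80511e66ca08), (nat_lit 0x338205b283d9541a6e00ef414525b2d47), (nat_lit 0x338b52377016329c32abe029a14d4988c), (nat_lit 0x3385deb49a2cd7aa0289432700e3610c9), (nat_lit 0x338b46977b6a32cc2c5b850399404a092), (nat_lit 0x3380488c4a82b30cef6a2b6850538ddc5), (nat_lit 0x338bd2cb5262c3b8c8abda49c8b008062), (nat_lit 0x33881843045050caf64b0ee229ab7ce95),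 (nat_lit 0x3386b00113a571a0aa219714da07a55f3), (nat_lit 0x338aaef128e8073c49b1d815126693510), (nat_lit 0x3381a51094c54681e7312d562c2abc4ae), (nat_lit 0x3386064d44c94825ee00ef5144c55d8ea), (nat_lit 0x338408c961e16235451822b0de4ead26f)]),
  ((nat_lit 4), [(nat_lit 0x338bdab49ca307b9ac5a928398a418820), (nat_lit 0x338ad1773b2232b824b3e065266d40a40), (nat_lit 0x3382ccea5b1c9b448d7d506a42f218820), (nat_lit 0x338a2ef62862953892a9cc39a1ec809a0), (nat_lit 0x3385ded5512289ba4da14697c0e130980)]),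
  ((nat_lit 1), [(nat_lit 0x338bdab49ca307b9ac5a928398a418820), (nat_lit 0x3383a9e5a35c3bc4329d930aa16430980), (nat_lit 0x3387a8f35b1c8ac6412d926b8e84809a0), (nat_lit 0x338adaeb286263b98da29237c26440a40)])]

def D_D5 : List ℕ := [(nat_lit 0), (nat_lit 513), (nat_lit 1025), (nat_lit 1537), (nat_lit 2049), (nat_lit 769), (nat_lit 87042), (nat_lit 94722), (nat_lit 116226), (nat_lit 124930), (nat_lit 131842), (nat_lit 157186), (nat_lit 166914), (nat_lit 195074), (nat_lit 206338), (nat_lit 217602), (nat_lit 293890), (nat_lit 308226), (nat_lit 344578), (nat_lit 436226), (nat_lit 454658), (nat_lit 499202), (nat_lit 574466), (nat_lit 743938), (nat_lit 0), (nat_lit 21787395), (nat_lit 31497475), (nat_lit 46993667), (nat_lit 5016857348), (nat_lit 0), (nat_lit 5964049668), (nat_lit 2909454596), (nat_lit 621943461125)]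

def D_L6 : List (ℕ × List ℕ) := [((nat_lit 0), [(nat_lit 0x338bdab49ca307b9ac5a928398a418820), (nat_lit 0x3385d2f1286c272812abe039a0ed32584), (nat_lit 0x3380924d4540f80a8b6255331c762baf1), (nat_lit 0x3388da957b6e89964c5a930399c410c01), (nat_lit 0x3382aa6faa1cda46063d8925b2e908062), (nat_lit 0x338ac5763b28953c81bb84628e604424d), (nat_lit 0x338634201dc8e12635941e544cd43a976), (nat_lit 0x3383bcaeb8d408d8489d1a1ac970610c9), (nat_lit 0x338011b28503340eab6254f31c5671637), (nat_lit 0x3381a51094c54681e7312d562c2abc4ae), (nat_lit 0x3389018432daa4c2d7089c7195119beb4), (nat_lit 0x338b52377016329c32abe029a14d4988c), (nat_lit 0x338729f3a40b2add063d88d5b22900443), (nat_lit 0x338b46977b6a32cc2c5b850399404a092), (nat_lit 0x3389b8ea599e4b51232c40cb86a293510), (nat_lit 0x3383406209531011d3436979558f5d8ea), (nat_lit 0x338234011458519af5941ee44d3451ecb), (nat_lit 0x338126086bc7590667312d462c0a8ddc5), (nat_lit 0x338201a1852451a2eb609cf31d3154ed5),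 (nat_lit 0x338408c961e16235451822b0de4ead26f), (nat_lit 0x33853dc5888e1bac689d1a0acad023126), (nat_lit 0x338539e5a4261bd4663c40d5b2c224928), (nat_lit 0x3384c043038d70b0b3436919548fb2d47), (nat_lit 0x33848a036bd170c8a73023462c8eb5553)]),
  ((nat_lit 1), [(nat_lit 0x338bdab49ca307b9ac5a928398a418820), (nat_lit 0x338a2ef62862953892a9cc39a1ec809a0), (nat_lit 0x3385d2b69ca2953881bbe0828ced30980), (nat_lit 0x338ad1773b2232b824b3e065266d40a40), (nat_lit 0x338b568b7b6263b981bcd1028d5248880)]),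
  ((nat_lit 4), [(nat_lit 0x338bdab49ca307b9ac5a928398a418820), (nat_lit 0x338bae957b6289ba44b1cd0524ac18820)])]

def D_D6 : List ℕ := [(nat_lit 0), (nat_lit 513), (nat_lit 1025), (nat_lit 1537), (nat_lit 2049), (nat_lit 769), (nat_lit 87042), (nat_lit 95234), (nat_lit 116226), (nat_lit 124930), (nat_lit 131842), (nat_lit 157186), (nat_lit 167938), (nat_lit 177666), (nat_lit 205570), (nat_lit 260098), (nat_lit 315906), (nat_lit 331778), (nat_lit 346626), (nat_lit 384770), (nat_lit 454658), (nat_lit 500226), (nat_lit 632834), (nat_lit 685570), (nat_lit 0), (nat_lit 37495555), (nat_lit 167682), (nat_lit 24661251), (nat_lit 5035757316), (nat_lit 0), (nat_lit 5937757444)]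

def D_L7 : List (ℕ × List ℕ) := [((nat_lit 0), [(nat_lit 0x338bdab49ca307b9ac5a928398a418820), (nat_lit 0x338b5e957c17299d028942d7014323126), (nat_lit 0x33872e959b4b07de4cb28c83a62408062), (nat_lit 0x3380924d4540f80a8b6255331c762baf1), (nat_lit 0x3385bab47c2cd99d002c472b8941230c9), (nat_lit 0x338205b283d9541a6e00ef414525b2d47), (nat_lit 0x3383c6b47a1529da02b940d705634988c), (nat_lit 0x33875a6fa40adac5045a8d23a6ec08043), (nat_lit 0x338131b24506f806ab224f332816bc4ae), (nat_lit 0x33848e086d0d3932b1104af0389751ecb), (nat_lit 0x338191b24504f802b66195349c2b8ddc5), (nat_lit 0x3380b11093c1568e762255431c4b2ba37), (nat_lit 0x33889e959cae87b9a652c90b30a918801), (nat_lit 0x33860a4d83c9441a71180b50b937b2cea), (nat_lit 0x3383ddf3ac948a2da389410706c249984), (nat_lit 0x33830608955336b28500e2f15c8e51d76)]),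
  ((nat_lit 2), [(nat_lit 0x338bdab49ca307b9ac5a928398a418820), (nat_lit 0x3388adf3a22edaba04b2932398ac10c20)]),
  ((nat_lit 4), [(nat_lit 0x338bdab49ca307b9ac5a928398a418820), (nat_lit 0x3388aa6fa22f2a96093ac8db31c618820), (nat_lit 0x33889df3ac2eda150655992591c918820), (nat_lit 0x338bae957b6289ba44b1cd0524ac18820)])]

def D_D7 : List ℕ := [(nat_lit 0), (nat_lit 513), (nat_lit 1025), (nat_lit 2049), (nat_lit 56322), (nat_lit 63490), (nat_lit 79362), (nat_lit 87554), (nat_lit 95234), (nat_lit 115202), (nat_lit 123906), (nat_lit 132610), (nat_lit 157186), (nat_lit 167938), (nat_lit 215554), (nat_lit 287746), (nat_lit 0), (nat_lit 1537), (nat_lit 0), (nat_lit 11827971), (nat_lit 16683779), (nat_lit 1741669124)]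

def D_L8 : List (ℕ × List ℕ) := [((nat_lit 24), [(nat_lit 0x338bdab49ca307b9ac5a928398a418820), (nat_lit 0x319bdab49ca307b9ac5a928398a418820)]),
  ((nat_lit 0), [(nat_lit 0x338bdab49ca307b9ac5a928398a418820), (nat_lit 0x338b5e957c17299d028942d7014323126), (nat_lit 0x33872e959b4b07de4cb28c83a62408062), (nat_lit 0x3380924d4540f80a8b6255331c762baf1), (nat_lit 0x3385bab47c2cd99d002c472b8941230c9), (nat_lit 0x338205b283d9541a6e00ef414525b2d47), (nat_lit 0x3383c6b47a1529da02b940d705634988c), (nat_lit 0x338131b24506f806ab224f332816bc4ae), (nat_lit 0x33848e086d0d3932b1104af0389751ecb), (nat_lit 0x338191b24504f802b66195349c2b8ddc5), (nat_lit 0x33889e959cae87b9a652c90b30a918801), (nat_lit 0x33860a4d83c9441a71180b50b937b2cea), (nat_lit 0x3380324d4542f80e96218f34a84b71637), (nat_lit 0x33830608955336b28500e2f15c8e51d76), (nat_lit 0x3382da959b5d07c64459d2851aec00443), (nat_lit 0x3383ddf3ac948a2da389410706c249984)]),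
  ((nat_lit 2), [(nat_lit 0x338bdab49ca307b9ac5a928398a418820), (nat_lit 0x338baa959ca28795a93d990591c610c20)]),
  ((nat_lit 4), [(nat_lit 0x338bdab49ca307b9ac5a928398a418820), (nat_lit 0x3388aa6fa22f2a96093ac8db31c618820), (nat_lit 0x33889df3ac2eda150655992591c918820), (nat_lit 0x338bae957b6289ba44b1cd0524ac18820)])]

def D_D8 : List ℕ := [(nat_lit 0), (nat_lit 513), (nat_lit 0), (nat_lit 1025), (nat_lit 1537), (nat_lit 2561), (nat_lit 112130), (nat_lit 122370), (nat_lit 144386), (nat_lit 156162), (nat_lit 181250), (nat_lit 193026), (nat_lit 222210), (nat_lit 236034), (nat_lit 308738), (nat_lit 345602), (nat_lit 385538), (nat_lit 497154), (nat_lit 0), (nat_lit 16723715), (nat_lit 0), (nat_lit 19472131), (nat_lit 24163075), (nat_lit 2719686404)]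

def D_L9 : List (ℕ × List ℕ) := [((nat_lit 24), [(nat_lit 0x338bdab49ca307b9ac5a928398a418820), (nat_lit 0x319bdab49ca307b9ac5a928398a418820)]),
  ((nat_lit 0), [(nat_lit 0x338bdab49ca307b9ac5a928398a418820), (nat_lit 0x338b15f59b572a46007292839ae123062), (nat_lit 0x338b5e957c17299d028942d7014323126), (nat_lit 0x3380924d4540f80a8b6255331c762baf1), (nat_lit 0x3382de8f9c1cdaae428a92839ac30808c), (nat_lit 0x33820e1245195681f11255331c37b2cae), (nat_lit 0x3385bab47c2cd99d002c472b8941230c9), (nat_lit 0x338205b283d9541a6e00ef414525b2d47), (nat_lit 0x338185b043c54932ae0255331c85bc6cb), (nat_lit 0x338191b24504f802b66195349c2b8ddc5), (nat_lit 0x3382060d45594909e50195349c6e5da37), (nat_lit 0x33889e959cae87b9a652c90b30a918801), (nat_lit 0x33860a4d83c9441a71180b50b937b2cea), (nat_lit 0x33808e5043c156b2971195349c9171576), (nat_lit 0x3382da959b5d07c64459d2851aec00443), (nat_lit 0x33871df49c0a8aae465446db8ac908184)]),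
  ((nat_lit 2), [(nat_lit 0x338bdab49ca307b9ac5a928398a418820), (nat_lit 0x33855e93ac0e87b9a28d8925b0a349820), (nat_lit 0x3385c5f49cacda9602ba8c83a5c323020), (nat_lit 0x33852e937b4e8a960cb4472b89c432420), (nat_lit 0x338b46757b572a1502b9d30519c361020), (nat_lit 0x338b9eb47b6309964652c88b31c910c20)]),
  ((nat_lit 4), [(nat_lit 0x338bdab49ca307b9ac5a928398a418820), (nat_lit 0x33889df3ac2eda150655992591c918820), (nat_lit 0x3388aa6fa22f2a96093ac8db31c618820), (nat_lit 0x338bae957b6289ba44b1cd0524ac18820)])]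

def D_D9 : List ℕ := [(nat_lit 0), (nat_lit 513), (nat_lit 0), (nat_lit 3073), (nat_lit 1025), (nat_lit 2561), (nat_lit 3329), (nat_lit 145922), (nat_lit 170498), (nat_lit 182786), (nat_lit 211970), (nat_lit 222722), (nat_lit 273922), (nat_lit 308226), (nat_lit 325122), (nat_lit 384514), (nat_lit 426498), (nat_lit 494850), (nat_lit 0), (nat_lit 15394563), (nat_lit 88322), (nat_lit 41837827), (nat_lit 2816255748), (nat_lit 3117056772), (nat_lit 0), (nat_lit 3647149828), (nat_lit 1634076932), (nat_lit 354685429509)]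

def D_L10 : List (ℕ × List ℕ) := [((nat_lit 24), [(nat_lit 0x338bdab49ca307b9ac5a928398a418820), (nat_lit 0x319bdab49ca307b9ac5a928398a418820)]),
  ((nat_lit 0), [(nat_lit 0x338bdab49ca307b9ac5a928398a418820), (nat_lit 0x33872e959b4b07de4cb28c83a62408062), (nat_lit 0x33889e959cae87b9a652c90b30a918801), (nat_lit 0x3380924d4540f80a8b6255331c762baf1), (nat_lit 0x33875a6fa40adac5045a8d23a6ec08043), (nat_lit 0x338131b24506f806ab224f332816bc4ae), (nat_lit 0x338019b24543380a874b2cf22c6a2ba37), (nat_lit 0x338191b24504f802b66195349c2b8ddc5)]),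
  ((nat_lit 2), [(nat_lit 0x338bdab49ca307b9ac5a928398a418820), (nat_lit 0x3388adf3a22edaba04b2932398ac10c20)]),
  ((nat_lit 4), [(nat_lit 0x338bdab49ca307b9ac5a928398a418820), (nat_lit 0x33889df3ac2eda150655992591c918820), (nat_lit 0x3388aa6fa22f2a96093ac8db31c618820), (nat_lit 0x338bae957b6289ba44b1cd0524ac18820)])]

def D_D10 : List ℕ := [(nat_lit 0), (nat_lit 513), (nat_lit 0), (nat_lit 1025), (nat_lit 2049), (nat_lit 2561), (nat_lit 112130), (nat_lit 122370), (nat_lit 145922), (nat_lit 169986), (nat_lit 0), (nat_lit 1537), (nat_lit 0), (nat_lit 7438595), (nat_lit 9886979), (nat_lit 729809156)]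

def D_L11 : List (ℕ × List ℕ) := [((nat_lit 24), [(nat_lit 0x338bdab49ca307b9ac5a928398a418820), (nat_lit 0x319bdab49ca307b9ac5a928398a418820)]),
  ((nat_lit 0), [(nat_lit 0x338bdab49ca307b9ac5a928398a418820), (nat_lit 0x3388aeb49caf0795a4b1cc8525cc10c01)]),
  ((nat_lit 4), [(nat_lit 0x338bdab49ca307b9ac5a928398a418820), (nat_lit 0x338bae957b6289ba44b1cd0524ac18820)])]

def D_D11 : List ℕ := [(nat_lit 0), (nat_lit 513), (nat_lit 0), (nat_lit 1025), (nat_lit 0), (nat_lit 1537)]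

def D_L12 : List (ℕ × List ℕ) := [((nat_lit 0), [(nat_lit 0x338bdab49ca307b9ac5a928398a418820), (nat_lit 0x338b5e957c17299d028942d7014323126), (nat_lit 0x33872e959b4b07de4cb28c83a62408062), (nat_lit 0x3385bab47c2cd99d002c472b8941230c9), (nat_lit 0x3383c6b47a1529da02b940d705634988c), (nat_lit 0x33875a6fa40adac5045a8d23a6ec08043), (nat_lit 0x33889e959cae87b9a652c90b30a918801), (nat_lit 0x3383ddf3ac948a2da389410706c249984)]),
  ((nat_lit 2), [(nat_lit 0x338bdab49ca307b9ac5a928398a418820), (nat_lit 0x3388adf3a22edaba04b2932398ac10c20)]),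
  ((nat_lit 4), [(nat_lit 0x338bdab49ca307b9ac5a928398a418820), (nat_lit 0x33889df3ac2eda150655992591c918820), (nat_lit 0x3388aa6fa22f2a96093ac8db31c618820), (nat_lit 0x338bae957b6289ba44b1cd0524ac18820)])]

def D_D12 : List ℕ := [(nat_lit 0), (nat_lit 513), (nat_lit 1025), (nat_lit 36866), (nat_lit 49666), (nat_lit 56834), (nat_lit 72194), (nat_lit 91650), (nat_lit 0), (nat_lit 1537), (nat_lit 0), (nat_lit 4643587), (nat_lit 4764931), (nat_lit 307813124)]

def D_L13 : List (ℕ × List ℕ) := [((nat_lit 0), [(nat_lit 0x338bdab49ca307b9ac5a928398a418820), (nat_lit 0x338b15f59b572a46007292839ae123062), (nat_lit 0x338191b24504f802b66195349c2b8ddc5), (nat_lit 0x3382de8f9c1cdaae428a92839ac30808c), (nat_lit 0x338131b24506f806ab224f332816bc4ae), (nat_lit 0x3382060d45594909e50195349c6e5da37), (nat_lit 0x3386020d4549490dee0a4f332845b2ef1), (nat_lit 0x3388aeb49caf0795a4b1cc8525cc10c01), (nat_lit 0x33808e5043c156b2971195349c9171576),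 (nat_lit 0x33800a5043c35692911a4f3329972bacb), (nat_lit 0x3385b9f59b6d2a5e0129cc85262061043), (nat_lit 0x3387468f9c0adada43b9cc85256200584)])]

def D_D13 : List ℕ := [(nat_lit 0), (nat_lit 513), (nat_lit 1025), (nat_lit 769), (nat_lit 1281), (nat_lit 33794), (nat_lit 38146), (nat_lit 52226), (nat_lit 57090), (nat_lit 75010), (nat_lit 107522), (nat_lit 144130)]

def D_L14 : List (ℕ × List ℕ) := [((nat_lit 8), [(nat_lit 0x338bdab49ca307b9ac5a928398a418820), (nat_lit 0x338b5e957c17299d028942d7014323126), (nat_lit 0x3388adf3a22edaba04b2932398ac10c20), (nat_lit 0x3385d2f1286c272812abe039a0ed32584), (nat_lit 0x3380924d4540f80a8b6255331c762baf1), (nat_lit 0x338ac5763b28953c81bb84628e604424d), (nat_lit 0x3385c66fab6c8a1e43b94307014261126), (nat_lit 0x338a2e3770aa12cc69b1d80511e66ca08), (nat_lit 0x338205b283d9541a6e00ef414525b2d47), (nat_lit 0x3388d6cb526ec394d0a4e447b5c800443), (nat_lit 0x338b55c588d60ba84da3e019a0f249984), (nat_lit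 0x338032086cc34909f62255531c6b716f1), (nat_lit 0x338a5d47b1aa45bd208b84c28e618224d), (nat_lit 0x338b4e3728563728087d5a2a48f03248c), (nat_lit 0x338634201dc8e12635941e544cd43a976), (nat_lit 0x33848e086d0d3932b1104af0389751ecb), (nat_lit 0x3389018432daa4c2d7089c7195119beb4), (nat_lit 0x338a16cb3b2a653c8375c0988662441b2), (nat_lit 0x3386b00113a571a0aa219714da07a55f3), (nat_lit 0x3380488c4a82b30cef6a2b6850538ddc5), (nat_lit 0x33824843015910a5d46c1f744cd551d76), (nat_lit 0x3386852621e5664151009cb195177ceb4), (nat_lit 0x338220011dd851263384a8e6d4cf3aacb), (nat_lit 0x33812126258676057484a6a6bc1571637)]),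
  ((nat_lit 13), [(nat_lit 0x338bdab49ca307b9ac5a928398a418820), (nat_lit 0x33855e6fa34f0ada4389408705623248c), (nat_lit 0x3389aa95b81f08b8295d988398a410db2), (nat_lit 0x338b15f59b572a46007292839ae123062), (nat_lit 0x338b4ef1a84f0a2802796487356333089), (nat_lit 0x338a15f3532b03d8808dc687056249a4d), (nat_lit 0x3389aaafb0a925c4697140839ae16120d), (nat_lit 0x338ade6fb269059cc22b80888d412324d), (nat_lit 0x338bd147991d079589aada8b4a2608c40), (nat_lit 0x3382cecb78cf2aa84ca5da88c1c430029), (nat_lit 0x338756cb79a309dd24a29a83c8ac18022)]),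
  ((nat_lit 15), [(nat_lit 0x338bdab49ca307b9ac5a928398a418820), (nat_lit 0x3382c6937c1d2a9da2bd98859143004c9), (nat_lit 0x338a4eb7b4a20395a35a888789c961830), (nat_lit 0x3385a9f5a42d29c5a939408706e623043), (nat_lit 0x33853a6fac8f0a2da12c448b8ec04988c), (nat_lit 0x3389be858c1c95a9a0bd868a84ec110d2), (nat_lit 0x338ad1eb542c375da4394c89b22048452), (nat_lit 0x3385a8f5b8272b45a47ba082868248ccc), (nat_lit 0x338516c7ac9e0bada1744c8a327020923), (nat_lit 0x338adceb5026c2d1a97b848b0e30204d2), (nat_lit 0x3387d6672c9448ada675c28a26c300990), (nat_lit 0x338395cf58e90559a69c648b8aac01029)]),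
  ((nat_lit 24), [(nat_lit 0x338bdab49ca307b9ac5a928398a418820), (nat_lit 0x319bdab49ca307b9ac5a928398a418820)]),
  ((nat_lit 0), [(nat_lit 0x338bdab49ca307b9ac5a928398a418820), (nat_lit 0x338515c799ae07ada4b52488b2a908e02), (nat_lit 0x3388d96a70ef07cda1ad088380a990986), (nat_lit 0x3388acaa9a4e17d5a675c88a4acc10070), (nat_lit 0x338a55719b1427d9a929cc8b91d280403), (nat_lit 0x338b96d4585407cdb071d2888ab230c8c), (nat_lit 0x3383add7a8a217cda32a988a42c4480d2), (nat_lit 0x3383bad799283795b2ac5885256604041), (nat_lit 0x338554a7b42827cda05c648b8dc660524), (nat_lit 0x338a3ab1280e37cda2b5cc85056c24249)]),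
  ((nat_lit 2), [(nat_lit 0x338bdab49ca307b9ac5a928398a418820), (nat_lit 0x338bb967a9289795b09a98888ec20c8c0), (nat_lit 0x33855a74ac0f2795a45dc4888dcc32420), (nat_lit 0x338b9671588ec7d9a9aaa08a05d231060), (nat_lit 0x338515719b2827b9b2adc8839ac90c060), (nat_lit 0x33853aa75a6247d9a29de48a04b01b0c0)])]

def D_D14 : List ℕ := [(nat_lit 0), (nat_lit 1025), (nat_lit 2049), (nat_lit 3073), (nat_lit 3585), (nat_lit 3329), (nat_lit 131074), (nat_lit 141314), (nat_lit 151042), (nat_lit 160002), (nat_lit 187394), (nat_lit 198146), (nat_lit 208130), (nat_lit 238594), (nat_lit 251394), (nat_lit 283650), (nat_lit 298242), (nat_lit 334338), (nat_lit 402946), (nat_lit 445698), (nat_lit 519682), (nat_lit 567554), (nat_lit 648706), (nat_lit 699394), (nat_lit 0), (nat_lit 22408963), (nat_lit 42794755), (nat_lit 2561), (nat_lit 6354364164), (nat_lit 7082295044), (nat_lit 1325570), (nat_lit 8289181444), (nat_lit 9470079748), (nat_lit 1513986),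 (nat_lit 10957390084), (nat_lit 0), (nat_lit 1078155562757), (nat_lit 153694467), (nat_lit 1287380058885), (nat_lit 166737266940166), (nat_lit 189388443051782), (nat_lit 209920590093574), (nat_lit 23741713668), (nat_lit 25734281476), (nat_lit 28425770244), (nat_lit 338001900545286), (nat_lit 378591810130694), (nat_lit 0), (nat_lit 513), (nat_lit 0), (nat_lit 0xdeedef3cbac707), (nat_lit 4398841888517), (nat_lit 0x12174a6ab70ed07), (nat_lit 0xa6f5c4f25fabdd08), (nat_lit 0xbe44f0857fe27f08), (nat_lit 0xd4e19aef800b5308), (nat_lit 0xf1aa3120e563e508), (nat_lit 0x11627799a2cbff508), (nat_lit 0x13a92a1ef52ae1108), (nat_lit 0), (nat_lit 0x2fb62e47c1d0b07), (nat_lit 0x2dcb400e2371307), (nat_lit 0x37e93ea43f5a107), (nat_lit 0x235e3ef5dd48a7708), (nat_lit 0x279ac57efe7a79308)]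

def D_L15 : List (ℕ × List ℕ) := [((nat_lit 0), [(nat_lit 0x338bdab49ca307b9ac5a928398a418820), (nat_lit 0x338b5e957c17299d028942d7014323126), (nat_lit 0x33872e959b4b07de4cb28c83a62408062), (nat_lit 0x3385d2f1286c272812abe039a0ed32584), (nat_lit 0x3380924d4540f80a8b6255331c762baf1), (nat_lit 0x3382de8f9c1cdaae428a92839ac30808c), (nat_lit 0x338ac5763b28953c81bb84628e604424d), (nat_lit 0x3385bab47c2cd99d002c472b8941230c9), (nat_lit 0x338a2e3770aa12cc69b1d80511e66ca08), (nat_lit 0x338205b283d9541a6e00ef414525b2d47), (nat_lit 0x3388d6cb526ec394d0a4e447b5c800443), (nat_lit 0x338131b24506f806ab224f332816bc4ae), (nat_lit 0x3387decb39269555818b86628a8093510), (nat_lit 0x338756cbb8cac8a84d7d2449a0f032401), (nat_lit 0x338634201dc8e12635941e544cd43a976), (nat_lit 0x33848e086d0d3932b1104af0389751ecb), (nat_lit 0x338191b24504f802b66195349c2b8ddc5), (nat_lit 0x3380b11093c1568e762255431c4b2ba37), (nat_lit 0x3389018432daa4c2d7089c7195119beb4),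 (nat_lit 0x3383ae2e28940bd429b3e039a286611b2), (nat_lit 0x33860a4d83c9441a71180b50b937b2cea), (nat_lit 0x3386b00113a571a0aa219714da07a55f3), (nat_lit 0x3388048c3590a4c977008a71b9b1ad26f), (nat_lit 0x33881843045050caf64b0ee229ab7ce95)]),
  ((nat_lit 2), [(nat_lit 0x338bdab49ca307b9ac5a928398a418820), (nat_lit 0x3389d0ebb11e9544c8ab84c28ef093420), (nat_lit 0x3389aab65c9e9a38d03c42d28ee823040), (nat_lit 0x3382cd76b8dc48a848a3e0cab4f232420), (nat_lit 0x3382d2afbc94c8b9029da045b4e330520), (nat_lit 0x338b2cb5a414273c6c3c5a8bca6921820), (nat_lit 0x338bbd73a0e30b29a4ab822398ac92120), (nat_lit 0x3385c6aa3ca81b38692bc46b926d44180), (nat_lit 0x338a56e75a5cd8aa482bccc992c280c20), (nat_lit 0x3382c6777994ca5903ab9215b4e291200), (nat_lit 0x33859e65a8a267b88cba868b428d4c820)]),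
  ((nat_lit 1), [(nat_lit 0x338bdab49ca307b9ac5a928398a418820), (nat_lit 0x3383a8b1bc2a15bc8d9b8d2b268340980), (nat_lit 0x3382a8efb928d746019ad12b32a330920), (nat_lit 0x33899e255a292729817d8c3ba6ad20a00), (nat_lit 0x338b3a95384ac9ac64bbd3051a28909a0), (nat_lit 0x338adaee9b4ac552505bc6838624488c0), (nat_lit 0x338aaece28df08d1a9bce44504e660900), (nat_lit 0x3385de9578ca85583071d2499a2c68a40), (nat_lit 0x33853e25b328dbcd033acc1726b280880), (nat_lit 0x33829e6f5c2e6b450d55089ab1d208860)]),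
  ((nat_lit 3), [(nat_lit 0x338bdab49ca307b9ac5a928398a418820), (nat_lit 0x33851de5a1963acd908d912ba5c468820), (nat_lit 0x3383a9f37216ca946d8dcc9b4a8480820), (nat_lit 0x3387ccf1b36835a90c2d48674af048820), (nat_lit 0x338b5eae2a62d7d20359e465226460820), (nat_lit 0x3389bd515caa3b1e042d189736e830820), (nat_lit 0x3387cd47bb2b0b44662ba4da256820820), (nat_lit 0x3383aa65aa6c3a3c888ae0db99cc90820), (nat_lit 0x338ad2eb3b0ad8da5073c899994340820)]),
  ((nat_lit 4), [(nat_lit 0x338bdab49ca307b9ac5a928398a418820), (nat_lit 0x33875576518ac3dd28a3e449b63018820), (nat_lit 0x3388aa6fa22f2a96093ac8db31c618820), (nat_lit 0x338752cb3a4a455cd0acdac7ca2818820), (nat_lit 0x33889df3ac2eda150655992591c918820), (nat_lit 0x338bae957b6289ba44b1cd0524ac18820), (nat_lit 0x3382ccea5b1c9b448d7d506a42f218820), (nat_lit 0x3382bd47b11c65c5929d209aa2ed18820)])]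

def D_D15 : List ℕ := [(nat_lit 0), (nat_lit 513), (nat_lit 1025), (nat_lit 2561), (nat_lit 3073), (nat_lit 2305), (nat_lit 2817), (nat_lit 115714), (nat_lit 125442), (nat_lit 134146), (nat_lit 142082), (nat_lit 168962), (nat_lit 177922), (nat_lit 206850), (nat_lit 218114), (nat_lit 248322), (nat_lit 260098), (nat_lit 271874), (nat_lit 284418), (nat_lit 322050), (nat_lit 390146), (nat_lit 433154), (nat_lit 537346), (nat_lit 678402), (nat_lit 0), (nat_lit 25269507), (nat_lit 58129155), (nat_lit 23803139), (nat_lit 32789251), (nat_lit 6147261700), (nat_lit 6675822340), (nat_lit 7493991172), (nat_lit 8784447748), (nat_lit 9742124292), (nat_lit 11051159812), (nat_lit 0), (nat_lit 1068178844421), (nat_lit 1175855533317), (nat_lit 1145886470917), (nat_lit 146502000062726), (nat_lit 162940987381510), (nat_lit 185351447143686), (nat_lit 209873846835974), (nat_lit 237471759915270), (nat_lit 267577391161094), (nat_lit 0), (nat_lit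 0x7cc8b457780107), (nat_lit 0x8e59cefdd86d07), (nat_lit 0x49f83d898713ad08), (nat_lit 0x53edf481a4c99308), (nat_lit 0x5ef0586e6a286308), (nat_lit 0x6d3965c7160a5108), (nat_lit 0x7d605c141ae93508), (nat_lit 0x8d0e29fb063f7b08), (nat_lit 0), (nat_lit 0x1323573a7f97707), (nat_lit 0x652e6e6b2514786509), (nat_lit 0x16a21a12d66dd07), (nat_lit 0x7d6245e8d253606109), (nat_lit 0x135596072ee379f08), (nat_lit 0x5e48718cbd61f99dbd0a), (nat_lit 0x6bb1d6ebf2b2f9c93b0a)]

def D_L16 : List (ℕ × List ℕ) := [((nat_lit 0), [(nat_lit 0x338bdab49ca307b9ac5a928398a418820), (nat_lit 0x338b5e957c17299d028942d7014323126), (nat_lit 0x33872e959b4b07de4cb28c83a62408062), (nat_lit 0x3385d2f1286c272812abe039a0ed32584), (nat_lit 0x3380924d4540f80a8b6255331c762baf1), (nat_lit 0x3382de8f9c1cdaae428a92839ac30808c), (nat_lit 0x338ac5763b28953c81bb84628e604424d), (nat_lit 0x3385bab47c2cd99d002c472b8941230c9), (nat_lit 0x338a2e3770aa12cc69b1d80511e66ca08),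 (nat_lit 0x338205b283d9541a6e00ef414525b2d47), (nat_lit 0x3388d6cb526ec394d0a4e447b5c800443), (nat_lit 0x338131b24506f806ab224f332816bc4ae), (nat_lit 0x3387decb39269555818b86628a8093510), (nat_lit 0x338756cbb8cac8a84d7d2449a0f032401), (nat_lit 0x338634201dc8e12635941e544cd43a976), (nat_lit 0x33848e086d0d3932b1104af0389751ecb), (nat_lit 0x338191b24504f802b66195349c2b8ddc5), (nat_lit 0x3380b11093c1568e762255431c4b2ba37), (nat_lit 0x3389018432daa4c2d7089c7195119beb4), (nat_lit 0x3383ae2e28940bd429b3e039a286611b2), (nat_lit 0x33860a4d83c9441a71180b50b937b2cea), (nat_lit 0x3386b00113a571a0aa219714da07a55f3), (nat_lit 0x3388048c3590a4c977008a71b9b1ad26f), (nat_lit 0x33881843045050caf64b0ee229ab7ce95)]),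
  ((nat_lit 17), [(nat_lit 0x338bdab49ca307b9ac5a928398a418820), (nat_lit 0x3389d0ebb11e9544c8ab84c28ef093420), (nat_lit 0x3382cd76b8dc48a848a3e0cab4f232420), (nat_lit 0x3382d2afbc94c8b9029da045b4e330520), (nat_lit 0x3385d8a7522818bc6dab990b926991840), (nat_lit 0x3383beb12cac253881bd1839a1666a600), (nat_lit 0x338ad2e5731617aa463c5099c2c220da0), (nat_lit 0x338ac56e38e697aa412d906bb28d14080), (nat_lit 0x3383ae778a2a1538832bd82b268d848c0), (nat_lit 0x338ada77740e2a46432bda15a54c410c0), (nat_lit 0x3385ba8aa9af08bc613cd8d2a2c249240), (nat_lit 0x3383d2d38a4ad5bc92ba8c1a89c864060)]),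
  ((nat_lit 1), [(nat_lit 0x338bdab49ca307b9ac5a928398a418820), (nat_lit 0x33851ef5b262c750902bccd9c96140c40), (nat_lit 0x338bbd73a0e30b29a4ab822398ac92120), (nat_lit 0x338ace8e39a2c53d102de43b256d10480), (nat_lit 0x3387cd5739a30a542c5ba44b24a26a060), (nat_lit 0x33871eeb7862454d902d8cda0ea914900), (nat_lit 0x338538b6aa22c3bc81bd0439c9704b4c0), (nat_lit 0x338aa8a770a2c9dd0da3c81b257030e40), (nat_lit 0x3385d26a39a24758502dc72786ad42580), (nat_lit 0x338a1dcfb2630ba86c5d4c29c8a8091a0), (nat_lit 0x3382d6cf9ca21a1c6c5a90970ae469a00)]),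
  ((nat_lit 23), [(nat_lit 0x338bdab49ca307b9ac5a928398a418820), (nat_lit 0x3385a8b3a8a287d083b1d86bb5d092420), (nat_lit 0x3383ae6ea0e24794c9bd850522ad64820), (nat_lit 0x338b1dd52a6267ce1255c6d5928813020), (nat_lit 0x338559eea8e2c99526bac483c29223420)]),
  ((nat_lit 2), [(nat_lit 0x338bdab49ca307b9ac5a928398a418820), (nat_lit 0x338bd8aeaa222a3e0651d835a66493420), (nat_lit 0x338bda6f28e2d750493acd2532a444020), (nat_lit 0x338bacaea4222acd093a883b19ec6c820), (nat_lit 0x338badf328e32754465592d3928c82020), (nat_lit 0x338b9eb47b6309964652c88b31c910c20)]),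
  ((nat_lit 4), [(nat_lit 0x338bdab49ca307b9ac5a928398a418820), (nat_lit 0x338bae957b6289ba44b1cd0524ac18820)])]

def D_D16 : List ℕ := [(nat_lit 0), (nat_lit 513), (nat_lit 1025), (nat_lit 2561), (nat_lit 3073), (nat_lit 2305), (nat_lit 2817), (nat_lit 115714), (nat_lit 125442), (nat_lit 134146), (nat_lit 142082), (nat_lit 168962), (nat_lit 177922), (nat_lit 206850), (nat_lit 218114), (nat_lit 248322), (nat_lit 260098), (nat_lit 271874), (nat_lit 284418), (nat_lit 322050), (nat_lit 390146), (nat_lit 433154), (nat_lit 537346), (nat_lit 678402), (nat_lit 0), (nat_lit 25269507), (nat_lit 22427395), (nat_lit 30947587), (nat_lit 5685091076), (nat_lit 6532185348), (nat_lit 7295377668), (nat_lit 8120921348), (nat_lit 9027418372), (nat_lit 9784695556), (nat_lit 10761996036), (nat_lit 12182064388), (nat_lit 0), (nat_lit 986740227333), (nat_lit 9721675524), (nat_lit 1251099520261), (nat_lit 166618194465542), (nat_lit 1925205090565),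 (nat_lit 209780357555974), (nat_lit 232145938576646), (nat_lit 2563493053189), (nat_lit 288588360722694), (nat_lit 351513240522502), (nat_lit 0), (nat_lit 414242381297926), (nat_lit 426677338412294), (nat_lit 0xdd5a99da597d07), (nat_lit 0xfa368bac2f0f07), (nat_lit 0), (nat_lit 0x924052d224e4d708), (nat_lit 0x9e746f9211406d08), (nat_lit 0x18f9520e43f9707), (nat_lit 0x1bf12ec627f1507), (nat_lit 0x7cddaa01a12d75f309), (nat_lit 0), (nat_lit 0x3e0b964ed9f06)]

/-- a permutation model -/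
def D : PM :=
  ⟨C.n, C.w, C.E,
    [[.l 1, .l 2, .l 3, .l 4, .l 5, .l 6, .l 10],
    [.l 1, .l 2, .l 3, .l 4, .l 5, .l 6],
    [.l 2, .l 3, .l 4, .l 5, .l 6],
    [.l 2, .l 3, .l 4, .l 5, .l 6, .l 10],
    [.l 2, .l 3, .l 4, .l 10, .l 5],
    [.l 6, .l 10, .l 2, .mul (.mul (.inv (.l 5)) (.l 4)) (.l 5), .mul (.mul (.mul (.mul (.mul (.mul (.mul (.mul (.mul (.mul (.l 5) (.l 6)) (.inv (.l 5))) (.inv (.l 6))) (.l 5)) (.inv (.l 6))) (.inv (.l 5))) (.l 6)) (.l 5)) (.l 6)) (.inv (.l 5))],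
    [.l 6, .l 10, .mul (.mul (.inv (.l 5)) (.l 4)) (.l 5), .mul (.mul (.inv (.l 5)) (.l 2)) (.l 5), .mul (.mul (.mul (.mul (.mul (.mul (.mul (.mul (.mul (.mul (.l 5) (.l 6)) (.inv (.l 5))) (.inv (.l 6))) (.l 5)) (.inv (.l 6))) (.inv (.l 5))) (.l 6)) (.l 5)) (.l 6)) (.inv (.l 5))],
    [.l 2, .l 3, .l 4, .l 10],
    [.l 1, .l 2, .l 3, .l 4, .l 10],
    [.l 1, .l 2, .l 3, .l 4, .l 10, .l 5],
    [.l 1, .l 3, .l 4, .mul (.mul (.l 2) (.l 3)) (.l 2), .l 10],
    [.l 1, .pow (.mul (.l 3) (.mul (.mul (.l 2) (.l 3)) (.l 2))) 2, .pow (.mul (.l 4) (.mul (.mul (.l 2) (.l 3)) (.l 2))) 2],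
    [.l 2, .l 3, .l 4],
    [.l 5, .mul (.l 3) (.l 10)],
    [.l 1, .l 2, .l 3, .l 4, .l 5, .l 6, .l 10],
    [.l 2, .l 3, .l 4, .l 5, .l 6, .l 10],
    [.l 2, .l 3, .l 4, .l 5, .l 6, .l 10]],
    [C_L0, C_L1, C_L2, D_L3, D_L4, D_L5, D_L6, D_L7, D_L8, D_L9, D_L10, D_L11, D_L12, D_L13, D_L14, D_L15, D_L16], [C_D0, C_D1, C_D2, D_D3, D_D4, D_D5, D_D6, D_D7, D_D8, D_D9, D_D10, D_D11, D_D12, D_D13, D_D14, D_D15, D_D16]⟩

instance D_ne : NeZero D.n := ⟨by decide⟩

theorem D_ok0 : D.ok0 = true := by decide +kernel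

theorem D_ch0 : Ch D 0 := C_ch0

theorem D_ch1 : Ch D 1 := C_ch1

theorem D_ch2 : Ch D 2 := C_ch2

theorem D_ch3 : Ch D 3 := ch_of_okS D_ok0 (by decide +kernel)

theorem D_ch4 : Ch D 4 := ch_of_okS D_ok0 (by decide +kernel)

theorem D_ch5 : Ch D 5 := ch_of_okS D_ok0 (by decide +kernel)

theorem D_ch6 : Ch D 6 := ch_of_okS D_ok0 (by decide +kernel)

theorem D_ch7 : Ch D 7 := ch_of_okS D_ok0 (by decide +kernel)

theorem D_ch8 : Ch D 8 := ch_of_okS D_ok0 (by decide +kernel)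

theorem D_ch9 : Ch D 9 := ch_of_okS D_ok0 (by decide +kernel)

theorem D_ch10 : Ch D 10 := ch_of_okS D_ok0 (by decide +kernel)

theorem D_ch11 : Ch D 11 := ch_of_okS D_ok0 (by decide +kernel)

theorem D_ch12 : Ch D 12 := ch_of_okS D_ok0 (by decide +kernel)

theorem D_ch13 : Ch D 13 := ch_of_okS D_ok0 (by decide +kernel)

theorem D_ch14 : Ch D 14 := ch_of_okO D_ok0 (by decide +kernel) ((D_ch0.card (inj_finPt _)).trans (by decide +kernel)).le

theorem D_ch15 : Ch D 15 := ch_of_okO D_ok0 (by decide +kernel) ((D_ch3.card (inj_finPt _)).trans (by decide +kernel)).le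

theorem D_ch16 : Ch D 16 := ch_of_okO D_ok0 (by decide +kernel) ((D_ch3.card (inj_finPt _)).trans (by decide +kernel)).le

theorem D_ok : D.OK := ok_of_ch D_ok0
  (forall_lt_succ (forall_lt_succ (forall_lt_succ (forall_lt_succ (forall_lt_succ (forall_lt_succ (forall_lt_succ (forall_lt_succ (forall_lt_succ (forall_lt_succ (forall_lt_succ (forall_lt_succ (forall_lt_succ (forall_lt_succ (forall_lt_succ (forall_lt_succ (forall_lt_succ forall_lt_zero D_ch0) D_ch1) D_ch2) D_ch3) D_ch4) D_ch5) D_ch6) D_ch7) D_ch8) D_ch9) D_ch10) D_ch11) D_ch12) D_ch13) D_ch14) D_ch15) D_ch16)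

/-- a formula -/
def D_cM_f : Fm := .all 3 40 [(.l 2, .l 2), (.l 3, .l 3), (.l 4, .l 4), (.l 5, .l 5), (.l 6, .l 6)] (.one (.l 40))

theorem D_cM_ev : D.eval D_cM_f = true := by decide +kernel

theorem D_cM {G : Type*} [Group G] {γ : ℕ → G} {k : ℕ} {N : List W} (g : Gf D γ k N)
    (e : tyB D k N D_cM_f = true := by decide +kernel) :
    ∀ d ∈ genW γ (D.ws 3), d * γ 2 = γ 2 * d → d * γ 3 = γ 3 * d → d * γ 4 = γ 4 * d → d * γ 5 = γ 5 * d → d * γ 6 = γ 6 * d → d = 1 :=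
  g.transfer e D_cM_ev

/-- a formula -/
def D_cls_f : Fm := .all 7 40 [] (.imp (.one (.mul (.l 40) (.l 40))) (.or (.one (.l 40)) (.or (.ex 3 41 [(.pow (.mul (.l 3) (.mul (.mul (.l 2) (.l 3)) (.l 2))) 2, .l 40)] (.tt)) (.or (.ex 15 41 [(.pow (.mul (.l 2) (.l 10)) 2, .l 40)] (.tt)) (.ex 16 41 [(.l 10, .l 40)] (.tt))))))

theorem D_cls_ev : D.eval D_cls_f = true := by decide +kernel

theorem D_cls {G : Type*} [Group G] {γ : ℕ → G} {k : ℕ} {N : List W} (g : Gf D γ k N)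
    (e : tyB D k N D_cls_f = true := by decide +kernel) :
    ∀ p ∈ genW γ (D.ws 7), p * p = 1 → p = 1 ∨ (∃ c ∈ genW γ (D.ws 3), c * zz γ = p * c ∧ True) ∨ (∃ c ∈ genW γ (D.ws 15), c * yv γ = p * c ∧ True) ∨ (∃ c ∈ genW γ (D.ws 16), c * γ 10 = p * c ∧ True) :=
  g.transfer e D_cls_ev

/-- a formula -/
def D_cz_f : Fm := .all 3 40 [(.pow (.mul (.l 3) (.mul (.mul (.l 2) (.l 3)) (.l 2))) 2, .pow (.mul (.l 3) (.mul (.mul (.l 2) (.l 3)) (.l 2))) 2)] (.mem 4 (.l 40))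

theorem D_cz_ev : D.eval D_cz_f = true := by decide +kernel

theorem D_cz {G : Type*} [Group G] {γ : ℕ → G} {k : ℕ} {N : List W} (g : Gf D γ k N)
    (e : tyB D k N D_cz_f = true := by decide +kernel) :
    ∀ d ∈ genW γ (D.ws 3), d * zz γ = zz γ * d → d ∈ genW γ (D.ws 4) :=
  g.transfer e D_cz_ev

/-- a formula -/
def D_cy_f : Fm := .all 15 40 [(.pow (.mul (.l 2) (.l 10)) 2, .pow (.mul (.l 2) (.l 10)) 2)] (.mem 5 (.l 40))

theorem D_cy_ev : D.eval D_cy_f = true := by decide +kernel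

theorem D_cy {G : Type*} [Group G] {γ : ℕ → G} {k : ℕ} {N : List W} (g : Gf D γ k N)
    (e : tyB D k N D_cy_f = true := by decide +kernel) :
    ∀ d ∈ genW γ (D.ws 15), d * yv γ = yv γ * d → d ∈ genW γ (D.ws 5) :=
  g.transfer e D_cy_ev

/-- a formula -/
def D_co_f : Fm := .all 16 40 [(.l 10, .l 10)] (.mem 6 (.l 40))

theorem D_co_ev : D.eval D_co_f = true := by decide +kernel

theorem D_co {G : Type*} [Group G] {γ : ℕ → G} {k : ℕ} {N : List W} (g : Gf D γ k N)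
    (e : tyB D k N D_co_f = true := by decide +kernel) :
    ∀ d ∈ genW γ (D.ws 16), d * γ 10 = γ 10 * d → d ∈ genW γ (D.ws 6) :=
  g.transfer e D_co_ev

/-- a formula -/
def D_z5_f : Fm := .all 4 40 [] (.imp (.one (.pow (.l 40) 5)) (.one (.l 40)))

theorem D_z5_ev : D.eval D_z5_f = true := by decide +kernel

theorem D_z5 {G : Type*} [Group G] {γ : ℕ → G} {k : ℕ} {N : List W} (g : Gf D γ k N)
    (e : tyB D k N D_z5_f = true := by decide +kernel) :
    ∀ e ∈ genW γ (D.ws 4), e ^ 5 = 1 → e = 1 :=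
  g.transfer e D_z5_ev

/-- a formula -/
def D_o1_f : Fm := .all 6 40 [] (.imp (.one (.pow (.l 40) 5)) (.imp (.not (.one (.l 40))) (.all 6 41 [(.l 40, .l 40)] (.imp (.one (.pow (.l 41) 4)) (.or (.one (.l 41)) (.or (.eq (.l 41) (.l 10)) (.or (.eq (.l 41) (.pow (.mul (.l 2) (.l 10)) 2)) (.eq (.l 41) (.mul (.l 10) (.pow (.mul (.l 2) (.l 10)) 2))))))))))

theorem D_o1_ev : D.eval D_o1_f = true := by decide +kernel

theorem D_o1 {G : Type*} [Group G] {γ : ℕ → G} {k : ℕ} {N : List W} (g : Gf D γ k N)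
    (e : tyB D k N D_o1_f = true := by decide +kernel) :
    ∀ e ∈ genW γ (D.ws 6), e ^ 5 = 1 → e ≠ 1 → ∀ k ∈ genW γ (D.ws 6), k * e = e * k → k ^ 4 = 1 → k = 1 ∨ k = γ 10 ∨ k = yv γ ∨ k = γ 10 * yv γ :=
  g.transfer e D_o1_ev

/-- a formula -/
def D_o2_f : Fm := .all 6 40 [] (.imp (.one (.pow (.l 40) 5)) (.imp (.not (.one (.l 40))) (.all 6 41 [(.l 40, .pow (.l 40) 2)] (.not (.tt)))))

theorem D_o2_ev : D.eval D_o2_f = true := by decide +kernel

theorem D_o2 {G : Type*} [Group G] {γ : ℕ → G} {k : ℕ} {N : List W} (g : Gf D γ k N)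
    (e : tyB D k N D_o2_f = true := by decide +kernel) :
    ∀ e ∈ genW γ (D.ws 6), e ^ 5 = 1 → e ≠ 1 → ∀ k ∈ genW γ (D.ws 6), k * e = e ^ 2 * k → ¬ True :=
  g.transfer e D_o2_ev

/-- a formula -/
def D_y1_f : Fm := .all 5 40 [] (.imp (.one (.pow (.l 40) 5)) (.imp (.not (.one (.l 40))) (.all 5 41 [(.l 40, .pow (.l 40) 2)] (.all 5 42 [(.l 40, .l 40), (.l 41, .l 41)] (.or (.one (.l 42)) (.eq (.l 42) (.pow (.mul (.l 2) (.l 10)) 2)))))))

theorem D_y1_ev : D.eval D_y1_f = true := by decide +kernel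

theorem D_y1 {G : Type*} [Group G] {γ : ℕ → G} {k : ℕ} {N : List W} (g : Gf D γ k N)
    (e : tyB D k N D_y1_f = true := by decide +kernel) :
    ∀ e ∈ genW γ (D.ws 5), e ^ 5 = 1 → e ≠ 1 → ∀ c ∈ genW γ (D.ws 5), c * e = e ^ 2 * c → ∀ k ∈ genW γ (D.ws 5), k * e = e * k → k * c = c * k → k = 1 ∨ k = yv γ :=
  g.transfer e D_y1_ev

/-- a formula -/
def D_z3_f : Fm := .all 4 40 [] (.imp (.one (.pow (.l 40) 3)) (.imp (.not (.one (.l 40))) (.all 4 41 [(.l 40, .inv (.l 40))] (.all 4 42 [(.l 40, .l 40), (.l 41, .l 41)] (.or (.one (.l 42)) (.eq (.l 42) (.pow (.mul (.l 3) (.mul (.mul (.l 2) (.l 3)) (.l 2))) 2)))))))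

theorem D_z3_ev : D.eval D_z3_f = true := by decide +kernel

theorem D_z3 {G : Type*} [Group G] {γ : ℕ → G} {k : ℕ} {N : List W} (g : Gf D γ k N)
    (e : tyB D k N D_z3_f = true := by decide +kernel) :
    ∀ e ∈ genW γ (D.ws 4), e ^ 3 = 1 → e ≠ 1 → ∀ c ∈ genW γ (D.ws 4), c * e = e⁻¹ * c → ∀ k ∈ genW γ (D.ws 4), k * e = e * k → k * c = c * k → k = 1 ∨ k = zz γ :=
  g.transfer e D_z3_ev

/-- a formula -/
def D_z2_f : Fm := .all 4 40 [] (.imp (.one (.pow (.l 40) 3)) (.imp (.not (.one (.l 40))) (.all 4 41 [(.l 40, .l 40)] (.imp (.one (.mul (.l 41) (.l 41))) (.or (.one (.l 41)) (.eq (.l 41) (.pow (.mul (.l 3) (.mul (.mul (.l 2) (.l 3)) (.l 2))) 2)))))))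

theorem D_z2_ev : D.eval D_z2_f = true := by decide +kernel

theorem D_z2 {G : Type*} [Group G] {γ : ℕ → G} {k : ℕ} {N : List W} (g : Gf D γ k N)
    (e : tyB D k N D_z2_f = true := by decide +kernel) :
    ∀ e ∈ genW γ (D.ws 4), e ^ 3 = 1 → e ≠ 1 → ∀ k ∈ genW γ (D.ws 4), k * e = e * k → k * k = 1 → k = 1 ∨ k = zz γ :=
  g.transfer e D_z2_ev

/-- a formula -/
def D_cZ_f : Fm := .all 14 40 [(.pow (.mul (.l 3) (.mul (.mul (.l 2) (.l 3)) (.l 2))) 2, .pow (.mul (.l 3) (.mul (.mul (.l 2) (.l 3)) (.l 2))) 2)] (.mem 9 (.l 40))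

theorem D_cZ_ev : D.eval D_cZ_f = true := by decide +kernel

theorem D_cZ {G : Type*} [Group G] {γ : ℕ → G} {k : ℕ} {N : List W} (g : Gf D γ k N)
    (e : tyB D k N D_cZ_f = true := by decide +kernel) :
    ∀ d ∈ genW γ (D.ws 14), d * zz γ = zz γ * d → d ∈ genW γ (D.ws 9) :=
  g.transfer e D_cZ_ev

/-- a formula -/
def D_cU_f : Fm := .all 9 40 [(.pow (.mul (.l 4) (.mul (.mul (.l 2) (.l 3)) (.l 2))) 2, .pow (.mul (.l 4) (.mul (.mul (.l 2) (.l 3)) (.l 2))) 2)] (.mem 10 (.l 40))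

theorem D_cU_ev : D.eval D_cU_f = true := by decide +kernel

theorem D_cU {G : Type*} [Group G] {γ : ℕ → G} {k : ℕ} {N : List W} (g : Gf D γ k N)
    (e : tyB D k N D_cU_f = true := by decide +kernel) :
    ∀ d ∈ genW γ (D.ws 9), d * uu γ = uu γ * d → d ∈ genW γ (D.ws 10) :=
  g.transfer e D_cU_ev

/-- a formula -/
def D_zT_f : Fm := .all 8 40 [(.l 2, .l 2), (.l 3, .l 3), (.l 10, .l 10)] (.or (.one (.l 40)) (.or (.eq (.l 40) (.l 1)) (.or (.eq (.l 40) (.pow (.mul (.l 3) (.mul (.mul (.l 2) (.l 3)) (.l 2))) 2)) (.eq (.l 40) (.mul (.l 1) (.pow (.mul (.l 3) (.mul (.mul (.l 2) (.l 3)) (.l 2))) 2))))))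

theorem D_zT_ev : D.eval D_zT_f = true := by decide +kernel

theorem D_zT {G : Type*} [Group G] {γ : ℕ → G} {k : ℕ} {N : List W} (g : Gf D γ k N)
    (e : tyB D k N D_zT_f = true := by decide +kernel) :
    ∀ d ∈ genW γ (D.ws 8), d * γ 2 = γ 2 * d → d * γ 3 = γ 3 * d → d * γ 10 = γ 10 * d → d = 1 ∨ d = γ 1 ∨ d = zz γ ∨ d = γ 1 * zz γ :=
  g.transfer e D_zT_ev

/-- a formula -/
def D_zK_f : Fm := .all 9 40 [(.l 2, .l 2), (.l 3, .l 3), (.l 5, .l 5)] (.or (.one (.l 40)) (.or (.eq (.l 40) (.l 1)) (.or (.eq (.l 40) (.pow (.mul (.l 3) (.mul (.mul (.l 2) (.l 3)) (.l 2))) 2)) (.eq (.l 40) (.mul (.l 1) (.pow (.mul (.l 3) (.mul (.mul (.l 2) (.l 3)) (.l 2))) 2))))))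

theorem D_zK_ev : D.eval D_zK_f = true := by decide +kernel

theorem D_zK {G : Type*} [Group G] {γ : ℕ → G} {k : ℕ} {N : List W} (g : Gf D γ k N)
    (e : tyB D k N D_zK_f = true := by decide +kernel) :
    ∀ d ∈ genW γ (D.ws 9), d * γ 2 = γ 2 * d → d * γ 3 = γ 3 * d → d * γ 5 = γ 5 * d → d = 1 ∨ d = γ 1 ∨ d = zz γ ∨ d = γ 1 * zz γ :=
  g.transfer e D_zK_ev

/-- a formula -/
def D_nsq_f : Fm := .all 8 40 [] (.not (.eq (.mul (.l 40) (.l 40)) (.l 1)))

theorem D_nsq_ev : D.eval D_nsq_f = true := by decide +kernel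

theorem D_nsq {G : Type*} [Group G] {γ : ℕ → G} {k : ℕ} {N : List W} (g : Gf D γ k N)
    (e : tyB D k N D_nsq_f = true := by decide +kernel) :
    ∀ d ∈ genW γ (D.ws 8), d * d ≠ γ 1 :=
  g.transfer e D_nsq_ev

/-- a formula -/
def D_sq_f : Fm := .all 8 40 [] (.imp (.eq (.mul (.mul (.l 40) (.l 40)) (.l 2)) (.mul (.l 2) (.mul (.l 40) (.l 40)))) (.imp (.eq (.mul (.mul (.l 40) (.l 40)) (.l 3)) (.mul (.l 3) (.mul (.l 40) (.l 40)))) (.or (.one (.mul (.l 40) (.l 40))) (.eq (.mul (.l 40) (.l 40)) (.pow (.mul (.l 3) (.mul (.mul (.l 2) (.l 3)) (.l 2))) 2)))))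

theorem D_sq_ev : D.eval D_sq_f = true := by decide +kernel

theorem D_sq {G : Type*} [Group G] {γ : ℕ → G} {k : ℕ} {N : List W} (g : Gf D γ k N)
    (e : tyB D k N D_sq_f = true := by decide +kernel) :
    ∀ d ∈ genW γ (D.ws 8), d * d * γ 2 = γ 2 * (d * d) → d * d * γ 3 = γ 3 * (d * d) → d * d = 1 ∨ d * d = zz γ :=
  g.transfer e D_sq_ev

/-- a formula -/
def D_n3_f : Fm := .all 9 40 [] (.imp (.one (.pow (.l 40) 3)) (.imp (.not (.one (.l 40))) (.ex 9 41 [(.l 40, .l 5)] (.tt))))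

theorem D_n3_ev : D.eval D_n3_f = true := by decide +kernel

theorem D_n3 {G : Type*} [Group G] {γ : ℕ → G} {k : ℕ} {N : List W} (g : Gf D γ k N)
    (e : tyB D k N D_n3_f = true := by decide +kernel) :
    ∀ d ∈ genW γ (D.ws 9), d ^ 3 = 1 → d ≠ 1 → ∃ c ∈ genW γ (D.ws 9), c * d = γ 5 * c ∧ True :=
  g.transfer e D_n3_ev

/-- a formula -/
def D_nf_f : Fm := .all 9 40 [] (.imp (.one (.mul (.l 40) (.l 40))) (.imp (.one (.pow (.mul (.inv (.l 5)) (.l 40)) 3)) (.all 9 41 [(.l 5, .inv (.l 5))] (.imp (.eq (.pow (.mul (.l 41) (.mul (.mul (.l 40) (.l 41)) (.l 40))) 2) (.pow (.mul (.l 3) (.mul (.mul (.l 2) (.l 3)) (.l 2))) 2)) (.all 9 42 [(.l 5, .inv (.l 5))] (.imp (.one (.pow (.mul (.mul (.inv (.l 5)) (.l 42)) (.l 40)) 2)) (.imp (.eq (.pow (.mul (.l 41) (.l 42)) 2) (.pow (.mul (.l 3) (.mul (.mul (.l 2) (.l 3)) (.l 2))) 2)) (.ex 13 43 [] (.and (.eq (.mul (.mul (.l 43) (.l 40)) (.inv (.l 43))) (.l 2)) (.and (.or (.eq (.mul (.mul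 (.l 43) (.l 41)) (.inv (.l 43))) (.l 3)) (.or (.eq (.mul (.mul (.l 43) (.l 41)) (.inv (.l 43))) (.mul (.l 3) (.pow (.mul (.l 3) (.mul (.mul (.l 2) (.l 3)) (.l 2))) 2))) (.or (.eq (.mul (.mul (.l 43) (.l 41)) (.inv (.l 43))) (.mul (.l 1) (.l 3))) (.eq (.mul (.mul (.l 43) (.l 41)) (.inv (.l 43))) (.mul (.mul (.l 1) (.l 3)) (.pow (.mul (.l 3) (.mul (.mul (.l 2) (.l 3)) (.l 2))) 2)))))) (.or (.eq (.mul (.mul (.l 43) (.l 42)) (.inv (.l 43))) (.l 10)) (.or (.eq (.mul (.mul (.l 43) (.l 42)) (.inv (.l 43))) (.mul (.l 10) (.pow (.mul (.l 3) (.mul (.mul (.l 2) (.l 3)) (.l 2))) 2))) (.or (.eq (.mul (.mul (.l 43) (.l 42)) (.inv (.l 43))) (.mul (.l 1) (.l 10))) (.eq (.mul (.mul (.l 43) (.l 42)) (.inv (.l 43))) (.mul (.mul (.l 1) (.l 10)) (.pow (.mul (.l 3) (.mul (.mul (.l 2) (.l 3)) (.l 2))) 2))))))))))))))))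

theorem D_nf_ev : D.eval D_nf_f = true := by decide +kernel

theorem D_nf {G : Type*} [Group G] {γ : ℕ → G} {k : ℕ} {N : List W} (g : Gf D γ k N)
    (e : tyB D k N D_nf_f = true := by decide +kernel) :
    ∀ x ∈ genW γ (D.ws 9), x * x = 1 → ((γ 5)⁻¹ * x) ^ 3 = 1 → ∀ p ∈ genW γ (D.ws 9), p * γ 5 = (γ 5)⁻¹ * p → (p * (x * p * x)) ^ 2 = zz γ → ∀ q ∈ genW γ (D.ws 9), q * γ 5 = (γ 5)⁻¹ * q → ((γ 5)⁻¹ * q * x) ^ 2 = 1 → (p * q) ^ 2 = zz γ → ∃ c ∈ genW γ (D.ws 13), c * x * c⁻¹ = γ 2 ∧ (c * p * c⁻¹ = γ 3 ∨ c * p * c⁻¹ = γ 3 * zz γ ∨ c * p * c⁻¹ = γ 1 * γ 3 ∨ c * p * c⁻¹ = γ 1 * γ 3 * zz γ) ∧ (c * q * c⁻¹ = γ 10 ∨ c * q * c⁻¹ = γ 10 * zz γ ∨ c * q * c⁻¹ = γ 1 * γ 10 ∨ c * q * c⁻¹ = γ 1 * γ 10 * zz γ) :=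
  g.transfer e D_nf_ev

/-- a formula -/
def D_ph_f : Fm := .all 8 40 [(.pow (.mul (.l 3) (.l 2)) 2, .pow (.mul (.l 3) (.l 2)) 2), (.pow (.mul (.mul (.l 10) (.l 3)) (.l 2)) 2, .pow (.mul (.mul (.l 10) (.l 3)) (.l 2)) 2), (.pow (.mul (.l 2) (.l 10)) 2, .pow (.mul (.l 2) (.l 10)) 2)] (.mem 11 (.l 40))

theorem D_ph_ev : D.eval D_ph_f = true := by decide +kernel

theorem D_ph {G : Type*} [Group G] {γ : ℕ → G} {k : ℕ} {N : List W} (g : Gf D γ k N)
    (e : tyB D k N D_ph_f = true := by decide +kernel) :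
    ∀ d ∈ genW γ (D.ws 8), d * (γ 3 * γ 2) ^ 2 = (γ 3 * γ 2) ^ 2 * d → d * (γ 10 * γ 3 * γ 2) ^ 2 = (γ 10 * γ 3 * γ 2) ^ 2 * d → d * yv γ = yv γ * d → d ∈ genW γ (D.ws 11) :=
  g.transfer e D_ph_ev

end Cfsg.Lib.M12S
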